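import Groth.Agent.Lib.TorsorSch.Descent
import Groth.Agent.Lib.TorsorSch.FibreProd
import Mathlib.AlgebraicGeometry.Sites.Fpqc

/-!
# Principal homogeneous bundles over affine schemes: two-fold cocycles and reduction to rings
-/

set_option autoImplicit false
set_option linter.style.haveILetI false

noncomputable section

universe u

open CategoryTheory CategoryTheory.Limits MonoidalCategory CartesianMonoidalCategory MonObj GrpObj AlgebraicGeometry
open scoped TensorProduct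

namespace Groth.Agent.Lib.PHS.Basic

variable {S : Scheme.{u}} {G X : Over S} [GrpObj G] {a : AlgGrp.Action G X}

/-- The function of a global section on a spectrum. -/
abbrev rd (R : CommRingCat.{u}) : Γ(Spec R, ⊤) ⟶ R := (Scheme.ΓSpecIso R).hom

theorem rd_map {R R' : CommRingCat.{u}} (ψ : R ⟶ R') (z : Γ(Spec R, ⊤)) :
    rd R' ((Spec.map ψ).appTop z) = ψ (rd R z) :=
  ConcreteCategory.congr_hom (Scheme.ΓSpecIso_naturality ψ) z

theorem comp_act {T T' : Over S} (h : T' ⟶ T) (g : T ⟶ G) (x : T ⟶ X) :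
    h ≫ lift g x ≫ a.act = lift (h ≫ g) (h ≫ x) ≫ a.act := by
  rw [← Category.assoc, comp_lift]

/-- The local sections glue to a section over an affine faithfully flat cover of each affine open. -/
theorem exists_affine_section (h : NonAbH1.IsLocallyTrivialFor Scheme.fpqcPrecoverage X)
    (U : S.Opens) (hU : IsAffineOpen U) :
    ∃ (T : Scheme.{u}) (_ : IsAffine T) (q : T ⟶ (U : Scheme.{u})),
      Surjective q ∧ Flat q ∧ ∃ s : T ⟶ X.left, s ≫ X.hom = q ≫ U.ι := by
  obtain ⟨R, hR, hsec⟩ := h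
  obtain ⟨T, hT, q, hs, hf, -, 𝒱, h𝒱⟩ := TorsorSch.Descent.exists_affine_cover hR U hU
  have hpt : ∀ t : T, ∃ (O : T.Opens) (i : 𝒱.I₀), IsAffineOpen O ∧ t ∈ O ∧ O ≤ (𝒱.f i).opensRange := by
    intro t
    obtain ⟨i, y, hy⟩ := 𝒱.exists_eq t
    obtain ⟨O, hO, htO, hle⟩ := exists_isAffineOpen_mem_and_subset (x := t)
      (U := (𝒱.f i).opensRange) ⟨y, hy⟩
    exact ⟨O, i, hO, htO, hle⟩
  choose O i hO htO hle using hpt
  obtain ⟨K, hK⟩ := isCompact_univ.elim_finite_subcover (fun t => (O t : Set T)) (fun t => (O t).isOpen)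
    fun t _ => Set.mem_iUnion.2 ⟨t, htO t⟩
  let W : Fin K.card → Scheme.{u} := fun k => (O (K.equivFin.symm k).1 : Scheme.{u})
  have : ∀ k, IsAffine (W k) := fun k => hO _
  let p : ∐ W ⟶ T := Sigma.desc fun k => (O (K.equivFin.symm k).1).ι
  haveI : IsAffine (∐ W) := inferInstance
  haveI : Surjective p := ⟨fun t => by
    obtain ⟨t', ht', htt'⟩ := Set.mem_iUnion₂.1 (hK (Set.mem_univ t))
    refine ⟨Sigma.ι W (K.equivFin ⟨t', ht'⟩) ⟨t, ?_⟩, ?_⟩
    · simpa using htt'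
    · refine (congr($(Sigma.ι_desc (fun k => (O (K.equivFin.symm k).1).ι) (K.equivFin ⟨t', ht'⟩))
        ⟨t, by simpa using htt'⟩)).trans ?_
      rfl⟩
  haveI : Flat p := inferInstanceAs (Flat (Sigma.desc _))
  refine ⟨∐ W, inferInstance, p ≫ q, inferInstance, inferInstance, ?_⟩
  have hk : ∀ k, ∃ s : W k ⟶ X.left, s ≫ X.hom = (O (K.equivFin.symm k).1).ι ≫ q ≫ U.ι := by
    intro k
    obtain ⟨S', g, hg, b, hb⟩ := h𝒱 (i (K.equivFin.symm k).1)
    obtain ⟨s, hs⟩ := hsec g hg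
    let l := IsOpenImmersion.lift (𝒱.f (i (K.equivFin.symm k).1)) (O (K.equivFin.symm k).1).ι
      (by rw [Scheme.Opens.range_ι]; exact hle _)
    refine ⟨l ≫ b ≫ s, ?_⟩
    rw [Category.assoc, Category.assoc, hs, hb, IsOpenImmersion.lift_fac_assoc]
  choose sk hsk using hk
  refine ⟨Sigma.desc sk, Sigma.hom_ext _ _ fun k => ?_⟩
  rw [Sigma.ι_desc_assoc, hsk, Category.assoc, Sigma.ι_desc_assoc]

section Rings

variable {A B : Type u} [CommRing A] [CommRing B] [Algebra A B] (j : Spec (CommRingCat.of A) ⟶ S)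

variable (A B) in
/-- The cover. -/
abbrev q : Spec (CommRingCat.of B) ⟶ Spec (CommRingCat.of A) :=
  Spec.map (CommRingCat.ofHom (algebraMap A B))

variable (B) in
/-- The cover, over the base. -/
abbrev P1 : Over S := Over.mk (q A B ≫ j)

variable (B) in
/-- The two-fold product. -/
abbrev P2 : Over S :=
  Over.mk (Spec.map (CommRingCat.ofHom (algebraMap A (B ⊗[A] B))) ≫ j)

variable (B) in
/-- The three-fold product. -/
abbrev P3 : Over S :=
  Over.mk (Spec.map (CommRingCat.ofHom (algebraMap A ((B ⊗[A] B) ⊗[A] B))) ≫ j)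

/-- An algebra map as a morphism over the base. -/
def ov {C D : Type u} [CommRing C] [CommRing D] [Algebra A C] [Algebra A D] (ψ : C →ₐ[A] D) :
    Over.mk (Spec.map (CommRingCat.ofHom (algebraMap A D)) ≫ j) ⟶
      Over.mk (Spec.map (CommRingCat.ofHom (algebraMap A C)) ≫ j) :=
  Over.homMk (Spec.map (CommRingCat.ofHom ψ.toRingHom)) (by
    change Spec.map _ ≫ Spec.map _ ≫ j = _
    rw [← Spec.map_comp_assoc, ← CommRingCat.ofHom_comp,
      show ψ.toRingHom.comp (algebraMap A C) = algebraMap A D from ψ.comp_algebraMap]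
    rfl)

theorem ov_left {C D : Type u} [CommRing C] [CommRing D] [Algebra A C] [Algebra A D] (ψ : C →ₐ[A] D) :
    (ov j ψ).left = Spec.map (CommRingCat.ofHom ψ.toRingHom) := rfl

theorem ov_comp {C D E : Type u} [CommRing C] [CommRing D] [CommRing E] [Algebra A C] [Algebra A D]
    [Algebra A E] (ψ : C →ₐ[A] D) (χ : D →ₐ[A] E) : ov j χ ≫ ov j ψ = ov j (χ.comp ψ) := by
  refine Over.OverMorphism.ext ?_
  change Spec.map _ ≫ Spec.map _ = Spec.map _
  rw [← Spec.map_comp]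
  rfl

variable (B) in
/-- First projection. -/
abbrev pr₁ : P2 B j ⟶ P1 B j := ov j Algebra.TensorProduct.includeLeft

variable (B) in
/-- Second projection. -/
abbrev pr₂ : P2 B j ⟶ P1 B j := ov j Algebra.TensorProduct.includeRight

theorem pullback_fst_eq : pullback.fst (q A B) (q A B) =
    (pullbackSpecIso A B B).hom ≫ Spec.map (CommRingCat.ofHom
      (Algebra.TensorProduct.includeLeft (R := A) (S := A) (A := B) (B := B)).toRingHom) :=
  (pullbackSpecIso_hom_fst (R := A) (S := B) (T := B)).symm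

theorem pullback_snd_eq : pullback.snd (q A B) (q A B) =
    (pullbackSpecIso A B B).hom ≫ Spec.map (CommRingCat.ofHom
      (Algebra.TensorProduct.includeRight (R := A) (A := B) (B := B)).toRingHom) :=
  (pullbackSpecIso_hom_snd (R := A) (S := B) (T := B)).symm

/-- The three projections to the cover and the cocycle of a section. -/
theorem exists_cocycle (ha : NonAbH1.IsPseudoTorsorSch a) (s : P1 B j ⟶ X) :
    ∃ g : P2 B j ⟶ G, lift g (pr₁ B j ≫ s) ≫ a.act = pr₂ B j ≫ s ∧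
      ∀ (j₁ j₂ j₃ : B →ₐ[A] (B ⊗[A] B) ⊗[A] B) (d₁₂ d₂₃ d₁₃ : B ⊗[A] B →ₐ[A] (B ⊗[A] B) ⊗[A] B),
        d₁₂.comp Algebra.TensorProduct.includeLeft = j₁ → d₁₂.comp Algebra.TensorProduct.includeRight = j₂ →
        d₂₃.comp Algebra.TensorProduct.includeLeft = j₂ → d₂₃.comp Algebra.TensorProduct.includeRight = j₃ →
        d₁₃.comp Algebra.TensorProduct.includeLeft = j₁ → d₁₃.comp Algebra.TensorProduct.includeRight = j₃ →
        (ov j d₂₃ ≫ g) * (ov j d₁₂ ≫ g) = ov j d₁₃ ≫ g := by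
  obtain ⟨g, hg, -⟩ := TorsorSch.FibreProd.existsUnique_of_pseudo ha (pr₁ B j ≫ s) (pr₂ B j ≫ s)
  refine ⟨g, hg, fun j₁ j₂ j₃ d₁₂ d₂₃ d₁₃ h1 h2 h3 h4 h5 h6 => ?_⟩
  have key : ∀ (d : B ⊗[A] B →ₐ[A] (B ⊗[A] B) ⊗[A] B) (l r : B →ₐ[A] (B ⊗[A] B) ⊗[A] B),
      d.comp Algebra.TensorProduct.includeLeft = l → d.comp Algebra.TensorProduct.includeRight = r →
      lift (ov j d ≫ g) (ov j l ≫ s) ≫ a.act = ov j r ≫ s := by
    intro d l r hl hr
    have h := congrArg (ov j d ≫ ·) hg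
    simp only [comp_act] at h
    rw [← hl, ← hr, ← ov_comp, ← ov_comp, Category.assoc, Category.assoc]
    exact h
  refine (TorsorSch.FibreProd.existsUnique_of_pseudo ha (ov j j₁ ≫ s) (ov j j₃ ≫ s)).unique ?_
    (key _ _ _ h5 h6)
  rw [GrpSch.act_mul, key _ _ _ h1 h2, key _ _ _ h3 h4]

/-- Descent of a section along a surjective flat quasi-compact morphism. -/
theorem hasSection_of_desc {T V : Scheme.{u}} (p : T ⟶ V) [Flat p] [Surjective p] [QuasiCompact p]
    (v : V ⟶ S) (s : T ⟶ X.left) (hs : s ≫ X.hom = p ≫ v)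
    (heq : pullback.fst p p ≫ s = pullback.snd p p ≫ s) : NonAbH1.HasSectionOver X v := by
  have hall : ∀ {Z : Scheme.{u}} (g₁ g₂ : Z ⟶ T), g₁ ≫ p = g₂ ≫ p → g₁ ≫ s = g₂ ≫ s := by
    intro Z g₁ g₂ h
    rw [← pullback.lift_fst g₁ g₂ h, Category.assoc, heq, pullback.lift_snd_assoc]
  refine ⟨EffectiveEpi.desc p s hall, ?_⟩
  rw [← cancel_epi p, EffectiveEpi.fac_assoc, hs]

end Rings

/-- Reduction to faithfully flat ring extensions. -/
theorem isTorsorFor_zariski_of (ha : NonAbH1.IsTorsorFor Scheme.fpqcPrecoverage a)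
    (hloc : ∀ (A B : Type u) [CommRing A] [CommRing B] [Algebra A B] [Module.FaithfullyFlat A B]
      (j : Spec (CommRingCat.of A) ⟶ S) [IsOpenImmersion j], (P1 B j ⟶ X) → ∀ p : Spec (CommRingCat.of A),
      ∃ (V : (Spec (CommRingCat.of A)).Opens), p ∈ V ∧ NonAbH1.HasSectionOver X (V.ι ≫ j)) :
    NonAbH1.IsTorsorFor Scheme.zariskiPrecoverage a := by
  have hpt : ∀ x : S, ∃ (V : Scheme.{u}) (f : V ⟶ S), IsOpenImmersion f ∧ x ∈ Set.range f ∧
      NonAbH1.HasSectionOver X f := by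
    intro x
    obtain ⟨U, hU, hxU, -⟩ := exists_isAffineOpen_mem_and_subset (x := x) (U := (⊤ : S.Opens)) trivial
    obtain ⟨T, hT, q, hqs, hqf, s, hs⟩ := exists_affine_section ha.2 U hU
    haveI : IsAffine (U : Scheme.{u}) := hU
    algebraize [q.appTop.hom]
    let A : Type u := Γ((U : Scheme.{u}), ⊤)
    let B : Type u := Γ(T, ⊤)
    have hq : Spec.map q.appTop = T.isoSpec.inv ≫ q ≫ (U : Scheme.{u}).isoSpec.hom := by
      rw [← Scheme.isoSpec_hom_naturality q, Iso.inv_hom_id_assoc]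
    haveI : Module.FaithfullyFlat A B := by
      have hs' : Surjective (Spec.map q.appTop) := by rw [hq]; infer_instance
      have hf' : Flat (Spec.map q.appTop) := by rw [hq]; infer_instance
      exact (RingHom.FaithfullyFlat.iff_flat_and_comap_surjective (f := q.appTop.hom)).2
        ⟨HasRingHomProperty.Spec_iff.1 hf', hs'.1⟩
    let j : Spec (CommRingCat.of A) ⟶ S := (U : Scheme.{u}).isoSpec.inv ≫ U.ι
    let σ : P1 B j ⟶ X := Over.homMk (T.isoSpec.inv ≫ s) (by
      change _ = Spec.map q.appTop ≫ _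
      rw [Category.assoc, hs, hq]
      simp [j])
    obtain ⟨V, hV, hsec⟩ := hloc A B j σ ((U : Scheme.{u}).isoSpec.hom ⟨x, hxU⟩)
    refine ⟨_, V.ι ≫ j, inferInstance, ?_, hsec⟩
    refine ⟨⟨_, hV⟩, ?_⟩
    change ((U : Scheme.{u}).isoSpec.hom ≫ (U : Scheme.{u}).isoSpec.inv ≫ U.ι) ⟨x, hxU⟩ = x
    rw [Iso.hom_inv_id_assoc]
    rfl
  choose V f hf hx hsec using hpt
  refine ⟨ha.1, Presieve.ofArrows V f, ?_, fun S' g hg => ?_⟩
  · rw [Scheme.ofArrows_mem_precoverage_iff]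
    exact ⟨fun x => ⟨x, hx x⟩, hf⟩
  · cases hg with
    | mk x => exact hsec x

end Groth.Agent.Lib.PHS.Basic
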