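import Groth.Prelude.Def_SekSuwa
import Groth.Agent.Lib.PHS.Basic
import Groth.Agent.Lib.RedPts.Points
import Groth.Agent.Lib.RedPts.BC
import Groth.Agent.Lib.EtH1Gm.RingDesc
import Mathlib.RingTheory.Regular.Flat
import Mathlib.RingTheory.Flat.FaithfullyFlat.Algebra

/-!
# Principal homogeneous bundles under the group schemes deforming the additive group to the
multiplicative group are Zariski locally trivial
-/

set_option autoImplicit false
set_option linter.style.haveILetI false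

noncomputable section

universe u

open CategoryTheory CategoryTheory.Limits MonoidalCategory CartesianMonoidalCategory MonObj GrpObj AlgebraicGeometry
open scoped TensorProduct

namespace Groth.Agent.Lib.PHS.SekG

open Groth.Agent.Lib.PHS.Basic Groth.Agent.Lib.RedPts

attribute [local instance] Points.baseAlgebra

variable {R : Type u} [CommRing R] {lam : R} {X : Scheme.{u}} {f : X ⟶ Spec (CommRingCat.of R)}

variable (f lam) in
/-- The parameter as a global function of a scheme over the base. -/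
def lamΓ (W : Over X) : Γ(W.left, ⊤) := Points.baseHom ((Over.map f).obj W) lam

/-- The coordinate of a point. -/
def tFn {W : Over X} (x : W ⟶ Red.bc f (SekSuwa.G R lam)) : Γ(W.left, ⊤) :=
  Points.algHomOf (BC.down f x) (SekSuwa.A.t : SekSuwa.A R lam)

theorem lamΓ_comp {W W' : Over X} (h : W' ⟶ W) : h.left.appTop (lamΓ lam f W) = lamΓ lam f W' := by
  change h.left.appTop ((W.hom ≫ f).appTop _) = (W'.hom ≫ f).appTop _
  rw [← Over.w h, Category.assoc]
  rfl

theorem tFn_comp {W W' : Over X} (h : W' ⟶ W) (x : W ⟶ Red.bc f (SekSuwa.G R lam)) :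
    tFn (h ≫ x) = h.left.appTop (tFn x) := by
  rw [tFn, BC.down_comp]
  exact Points.ringHomOf_comp h.left _ _

theorem tFn_mul {W : Over X} (x y : W ⟶ Red.bc f (SekSuwa.G R lam)) :
    tFn (x * y) = tFn x + tFn y + lamΓ lam f W * (tFn x * tFn y) := by
  rw [tFn, BC.down_mul, Points.algHomOf_mul, SekSuwa.A.comul_t, map_add, map_add, map_smul,
    Algebra.TensorProduct.lift_tmul, Algebra.TensorProduct.lift_tmul, Algebra.TensorProduct.lift_tmul,
    map_one, map_one, _root_.mul_one, _root_.one_mul, Algebra.smul_def]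
  rfl

theorem unit_rel {W : Over X} (x : W ⟶ Red.bc f (SekSuwa.G R lam)) :
    (1 + lamΓ lam f W * tFn x) * (show Γ(W.left, ⊤) from
      Points.algHomOf (BC.down f x) (SekSuwa.A.inv : SekSuwa.A R lam)) = 1 := by
  have h := congrArg (Points.algHomOf (BC.down f x)) (SekSuwa.A.u_mul_inv (R := R) (lam := lam))
  rw [SekSuwa.A.u_def, map_mul, map_add, map_mul, map_one, AlgHom.commutes] at h
  exact h

theorem isUnit_tFn {W : Over X} (x : W ⟶ Red.bc f (SekSuwa.G R lam)) :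
    IsUnit (1 + lamΓ lam f W * tFn x) :=
  .of_mul_eq_one _ (unit_rel x)

theorem tFn_injective {W : Over X} {x y : W ⟶ Red.bc f (SekSuwa.G R lam)} (h : tFn x = tFn y) :
    x = y := by
  refine BC.down_injective (Points.algHomOf_injective (SekSuwa.A.algHom_ext h ?_))
  refine (isUnit_tFn x).mul_left_cancel ?_
  rw [unit_rel x, h, unit_rel y]

theorem exists_tFn_eq {W : Over X} {b c : Γ(W.left, ⊤)} (h : (1 + lamΓ lam f W * b) * c = 1) :
    ∃ x : W ⟶ Red.bc f (SekSuwa.G R lam), tFn x = b := by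
  obtain ⟨b', hb⟩ : ∃ b' : Γ(((Over.map f).obj W).left, ⊤), b' = b := ⟨b, rfl⟩
  obtain ⟨c', hc⟩ : ∃ c' : Γ(((Over.map f).obj W).left, ⊤), c' = c := ⟨c, rfl⟩
  have h' : (1 + lam • b') * c' = 1 := by rw [Algebra.smul_def, hb, hc]; exact h
  refine ⟨BC.up f (Points.pointOf (SekSuwa.A.lift R lam b' c' h')), ?_⟩
  rw [tFn, BC.down_up, Points.algHomOf_pointOf, SekSuwa.A.lift_t]
  exact hb

section Rings

variable {A B : Type u} [CommRing A] [CommRing B] [Algebra A B]

variable (f) in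
/-- The structure map of an affine open. -/
def str (j : Spec (CommRingCat.of A) ⟶ X) : R →+* A := (Spec.preimage (j ≫ f)).hom

/-- The coordinate of a point on a spectrum. -/
def rfn {C : Type u} [CommRing C] [Algebra A C] {j : Spec (CommRingCat.of A) ⟶ X}
    (x : Over.mk (Spec.map (CommRingCat.ofHom (algebraMap A C)) ≫ j) ⟶ Red.bc f (SekSuwa.G R lam)) : C :=
  rd (CommRingCat.of C) (tFn x)

theorem rd_lamΓ {C : Type u} [CommRing C] [Algebra A C] (j : Spec (CommRingCat.of A) ⟶ X) :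
    rd (CommRingCat.of C) (lamΓ lam f (Over.mk (Spec.map (CommRingCat.ofHom (algebraMap A C)) ≫ j))) =
      algebraMap A C (str f j lam) := by
  change rd (CommRingCat.of C) (((Spec.map (CommRingCat.ofHom (algebraMap A C)) ≫ j) ≫ f).appTop
    ((Scheme.ΓSpecIso (CommRingCat.of R)).inv lam)) = _
  rw [Category.assoc, ← Spec.map_preimage (j ≫ f), ← Spec.map_comp, rd_map]
  simp only [rd, Iso.inv_hom_id_apply]
  rfl

theorem rfn_ov {C D : Type u} [CommRing C] [CommRing D] [Algebra A C] [Algebra A D]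
    (j : Spec (CommRingCat.of A) ⟶ X) (ψ : C →ₐ[A] D)
    (x : Over.mk (Spec.map (CommRingCat.ofHom (algebraMap A C)) ≫ j) ⟶ Red.bc f (SekSuwa.G R lam)) :
    rfn (ov j ψ ≫ x) = ψ (rfn x) := by
  rw [rfn, tFn_comp]
  exact rd_map (CommRingCat.ofHom ψ.toRingHom) _

theorem rfn_mul {C : Type u} [CommRing C] [Algebra A C] {j : Spec (CommRingCat.of A) ⟶ X}
    (x y : Over.mk (Spec.map (CommRingCat.ofHom (algebraMap A C)) ≫ j) ⟶ Red.bc f (SekSuwa.G R lam)) :
    rfn (x * y) = rfn x + rfn y + algebraMap A C (str f j lam) * (rfn x * rfn y) := by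
  rw [rfn, tFn_mul, ← rd_lamΓ (f := f)]
  exact (map_add (rd (CommRingCat.of C)).hom _ _).trans (by rw [map_add, map_mul, map_mul]; rfl)

theorem isUnit_rfn {C : Type u} [CommRing C] [Algebra A C] {j : Spec (CommRingCat.of A) ⟶ X}
    (x : Over.mk (Spec.map (CommRingCat.ofHom (algebraMap A C)) ≫ j) ⟶ Red.bc f (SekSuwa.G R lam)) :
    IsUnit (1 + algebraMap A C (str f j lam) * rfn x) := by
  have h := (isUnit_tFn x).map (rd (CommRingCat.of C)).hom
  rw [map_add, map_one, map_mul, rd_lamΓ] at h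
  exact h

/-- An element congruent to its two images is congruent to a scalar. -/
theorem exists_eq_add [Module.FaithfullyFlat A B] (l : A) {m : B} {z : B ⊗[A] B}
    (h : (1 : B) ⊗ₜ[A] m - m ⊗ₜ 1 = l • z) : ∃ (a : A) (c : B), m = algebraMap A B a + l • c := by
  let N : Submodule A B := LinearMap.range (Algebra.linearMap A B) ⊔ LinearMap.range (l • LinearMap.id)
  have hz : ∀ w : B ⊗[A] B, l • N.mkQ.rTensor B w = 0 := by
    intro w
    induction w using TensorProduct.induction_on with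
    | zero => simp
    | add x y hx hy => rw [map_add, smul_add, hx, hy, add_zero]
    | tmul x y =>
      rw [LinearMap.rTensor_tmul, TensorProduct.smul_tmul', ← map_smul,
        show N.mkQ (l • x) = 0 from (Submodule.Quotient.mk_eq_zero N).2 (Submodule.mem_sup_right ⟨x, rfl⟩),
        TensorProduct.zero_tmul]
  have h1 : N.mkQ 1 = 0 := (Submodule.Quotient.mk_eq_zero N).2 (Submodule.mem_sup_left ⟨1, map_one (algebraMap A B)⟩)
  have hm : N.mkQ m ⊗ₜ[A] (1 : B) = 0 := by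
    have h' := congrArg (N.mkQ.rTensor B) h
    rw [map_sub, map_smul, hz, LinearMap.rTensor_tmul, LinearMap.rTensor_tmul, h1,
      TensorProduct.zero_tmul, zero_sub, neg_eq_zero] at h'
    exact h'
  have hm' : N.mkQ m = 0 :=
    Module.FaithfullyFlat.tensorProduct_mk_injective (A := A) (B := B) (B ⧸ N) <| by
      change (1 : B) ⊗ₜ[A] N.mkQ m = (1 : B) ⊗ₜ[A] 0
      rw [TensorProduct.tmul_zero, ← TensorProduct.comm_tmul, hm, map_zero]
  obtain ⟨_, ⟨a, rfl⟩, _, ⟨c, rfl⟩, e⟩ := Submodule.mem_sup.1 ((Submodule.Quotient.mk_eq_zero N).1 hm')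
  exact ⟨a, c, e.symm⟩

/-- Functions invertible on an open subset of a spectrum. -/
theorem isUnit_appTop {T : (Spec (CommRingCat.of B)).Opens} {m : B}
    (hT : ∀ y ∈ T, y ∈ PrimeSpectrum.basicOpen m) :
    IsUnit (T.ι.appTop ((Scheme.ΓSpecIso (CommRingCat.of B)).inv m)) := by
  let mT : Γ((T : Scheme.{u}), ⊤) := T.ι.appTop ((Scheme.ΓSpecIso (CommRingCat.of B)).inv m)
  have h : (T : Scheme.{u}).basicOpen mT = ⊤ := by
    rw [← Scheme.preimage_basicOpen_top, basicOpen_eq_of_affine]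
    exact top_unique fun y _ => hT _ y.2
  have hu' := RingedSpace.isUnit_res_basicOpen _ mT
  have key : ∀ (W : (T : Scheme.{u}).Opens) (hW : W ≤ ⊤), W = ⊤ →
      IsUnit ((T : Scheme.{u}).presheaf.map (homOfLE hW).op mT) → IsUnit mT := by
    rintro W hW rfl hu''
    have e : (T : Scheme.{u}).presheaf.map (homOfLE hW).op mT = mT := by
      rw [show (homOfLE hW).op = 𝟙 (Opposite.op (⊤ : (T : Scheme.{u}).Opens)) from rfl,
        CategoryTheory.Functor.map_id]
      rfl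
    rwa [e] at hu''
  exact key _ le_top h hu'

open EtH1Gm.RingDesc in
theorem exists_open [IsDomain R] (hlam : lam ≠ 0) [Flat f] {P : Over X}
    (a : AlgGrp.Action (Red.bc f (SekSuwa.G R lam)) P) (ha : NonAbH1.IsPseudoTorsorSch a)
    [Module.FaithfullyFlat A B] (j : Spec (CommRingCat.of A) ⟶ X) [IsOpenImmersion j]
    (s : P1 B j ⟶ P) (p : Spec (CommRingCat.of A)) :
    ∃ V : (Spec (CommRingCat.of A)).Opens, p ∈ V ∧ NonAbH1.HasSectionOver P (V.ι ≫ j) := by
  haveI : Surjective (q A B) := ⟨PrimeSpectrum.comap_surjective_of_faithfullyFlat⟩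
  haveI : Flat (q A B) := HasRingHomProperty.Spec_iff.2 (RingHom.flat_algebraMap_iff.2 inferInstance)
  obtain ⟨g, hg, hcoc⟩ := exists_cocycle j ha s
  obtain ⟨l, hl⟩ : ∃ l, l = str f j lam := ⟨_, rfl⟩
  obtain ⟨τ, hτ⟩ : ∃ τ : B ⊗[A] B, τ = rfn g := ⟨_, rfl⟩
  obtain ⟨gam, hgam⟩ : ∃ gam : B ⊗[A] B, gam = 1 + algebraMap A _ l * τ := ⟨_, rfl⟩
  have hu : IsUnit gam := by rw [hgam, hl, hτ]; exact isUnit_rfn g
  have hc : d (j₁ A B) (j₂ A B) gam * d (j₂ A B) (j₃ A B) gam = d (j₁ A B) (j₃ A B) gam := by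
    have h := congrArg rfn (hcoc (j₁ A B) (j₂ A B) (j₃ A B) (d (j₁ A B) (j₂ A B)) (d (j₂ A B) (j₃ A B))
      (d (j₁ A B) (j₃ A B))
      (Algebra.TensorProduct.lift_comp_includeLeft _ _ fun _ _ => .all _ _) (Algebra.TensorProduct.lift_comp_includeRight _ _ fun _ _ => .all _ _)
      (Algebra.TensorProduct.lift_comp_includeLeft _ _ fun _ _ => .all _ _) (Algebra.TensorProduct.lift_comp_includeRight _ _ fun _ _ => .all _ _)
      (Algebra.TensorProduct.lift_comp_includeLeft _ _ fun _ _ => .all _ _) (Algebra.TensorProduct.lift_comp_includeRight _ _ fun _ _ => .all _ _))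
    rw [rfn_mul, rfn_ov, rfn_ov, rfn_ov, ← hl, ← hτ] at h
    simp only [hgam, map_add, map_one, map_mul, AlgHom.commutes]
    linear_combination algebraMap A ((B ⊗[A] B) ⊗[A] B) l * h
  obtain ⟨p₀, hp₀⟩ := (inferInstance : Surjective (q A B)).1 p
  let P₀ : PrimeSpectrum B := p₀
  obtain ⟨m, hm, hmp⟩ := exists_mem_ker_notMem gam hu hc P₀.asIdeal
  have hcong : (1 : B) ⊗ₜ[A] m - m ⊗ₜ 1 = l • (τ * (m ⊗ₜ 1)) := by
    rw [← hm, hgam, Algebra.smul_def]; ring
  obtain ⟨a₁, c₁, hmc⟩ := exists_eq_add l hcong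
  obtain ⟨a₀, c, hmc, hap⟩ : ∃ (a₀ : A) (c : B), m = algebraMap A B a₀ + l • c ∧
      algebraMap A B a₀ ∉ P₀.asIdeal := by
    by_cases h : algebraMap A B a₁ ∈ P₀.asIdeal
    · refine ⟨a₁ + l, c₁ - 1, ?_, fun h' => hmp ?_⟩
      · rw [hmc, map_add, Algebra.smul_def, Algebra.smul_def]; ring
      · rw [hmc, Algebra.smul_def]
        rw [map_add] at h'
        exact add_mem h (P₀.asIdeal.mul_mem_right _ ((Submodule.add_mem_iff_right _ h).1 h'))
    · exact ⟨a₁, c₁, hmc, h⟩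
  have hτm : τ * (m ⊗ₜ 1) = 1 ⊗ₜ c - c ⊗ₜ 1 := by
    have hreg : IsSMulRegular (B ⊗[A] B) l := by
      have hφ : (str f j).Flat := HasRingHomProperty.Spec_iff.1
        (show Flat (Spec.map (Spec.preimage (j ≫ f))) by rw [Spec.map_preimage]; infer_instance)
      algebraize [str f j]
      have h₁ : IsSMulRegular A l := by
        rw [hl]
        exact IsSMulRegular.of_flat (IsRegular.of_ne_zero hlam).left.isSMulRegular
      have h₂ : IsSMulRegular (B ⊗[A] B) (algebraMap A (B ⊗[A] B) l) := IsSMulRegular.of_flat h₁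
      exact fun x y e => h₂ (by simpa [Algebra.smul_def] using e)
    refine hreg ?_
    simp only
    rw [← hcong, hmc, TensorProduct.tmul_add, TensorProduct.add_tmul, smul_sub,
      ← TensorProduct.tmul_smul, TensorProduct.smul_tmul']
    rw [Algebra.algebraMap_eq_smul_one, TensorProduct.tmul_smul, ← TensorProduct.smul_tmul' a₀]
    abel
  let D : (Spec (CommRingCat.of B)).Opens := PrimeSpectrum.basicOpen m
  have hsat : ∀ y y', q A B y = q A B y' → y ∈ D → y' ∈ D := fun y y' h hy =>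
    notMem_of_comap_eq hu hm h hy
  have himg : IsOpen (q A B '' (D : Set (Spec (CommRingCat.of B)))) := by
    rw [← (Flat.isQuotientMap_of_surjective (q A B)).isOpen_preimage]
    convert D.2 using 1
    ext y
    exact ⟨fun ⟨y', hy', e⟩ => hsat y' y e hy', fun hy => ⟨y, hy, rfl⟩⟩
  let V : (Spec (CommRingCat.of A)).Opens := ⟨_, himg⟩ ⊓ PrimeSpectrum.basicOpen a₀
  refine ⟨V, ⟨⟨p₀, hmp, hp₀⟩, ?_⟩, ?_⟩
  · rw [← hp₀]; exact hap
  let T := q A B ⁻¹ᵁ V
  let r : (T : Scheme.{u}) ⟶ (V : Scheme.{u}) := q A B ∣_ V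
  haveI : Surjective r := IsZariskiLocalAtTarget.restrict ‹Surjective (q A B)› V
  haveI : Flat r := MorphismProperty.of_isPullback (isPullback_morphismRestrict _ _).flip ‹Flat (q A B)›
  haveI : QuasiCompact r := MorphismProperty.of_isPullback (isPullback_morphismRestrict _ _).flip (inferInstance : QuasiCompact (q A B))
  let ρ : B →+* Γ((T : Scheme.{u}), ⊤) := ((Scheme.ΓSpecIso (CommRingCat.of B)).inv ≫ T.ι.appTop).hom
  have hmT : IsUnit (ρ m) := isUnit_appTop (T := T) fun y hy => by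
    obtain ⟨y', hy', e⟩ := hy.1
    exact hsat y' y e hy'
  have haT : IsUnit (ρ (algebraMap A B a₀)) := isUnit_appTop (T := T) fun y hy => hy.2
  let O : Over X := Over.mk (T.ι ≫ q A B ≫ j)
  let ιT : O ⟶ P1 B j := Over.homMk T.ι rfl
  have hlO : lamΓ lam f O = ρ (algebraMap A B l) := by
    rw [hl, ← rd_lamΓ (f := f), ← lamΓ_comp (f := f) ιT]
    exact congrArg T.ι.appTop ((Scheme.ΓSpecIso (CommRingCat.of B)).hom_inv_id_apply _).symm
  obtain ⟨x, hx⟩ := exists_tFn_eq (lam := lam) (f := f) (W := O)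
    (b := -ρ c * (↑hmT.unit⁻¹ : Γ((T : Scheme.{u}), ⊤)))
    (c := ρ m * (↑haT.unit⁻¹ : Γ((T : Scheme.{u}), ⊤))) (by
      have e₁ : ρ m = ρ (algebraMap A B a₀) + ρ (algebraMap A B l) * ρ c := by
        rw [hmc, Algebra.smul_def, map_add, map_mul]
      rw [hlO]
      linear_combination (-(ρ (algebraMap A B l) * ρ c) * (↑haT.unit⁻¹ : Γ((T : Scheme.{u}), ⊤))) * hmT.mul_val_inv +
        (↑haT.unit⁻¹ : Γ((T : Scheme.{u}), ⊤)) * e₁ + haT.mul_val_inv)
  let σ : O ⟶ P := lift x (ιT ≫ s) ≫ a.act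
  refine hasSection_of_desc r (V.ι ≫ j) σ.left ?_ ?_
  · rw [Over.w σ]
    change T.ι ≫ q A B ≫ j = _
    rw [morphismRestrict_ι_assoc]
  let Z : Over X := Over.mk (pullback.fst r r ≫ T.ι ≫ q A B ≫ j)
  have hrT : r ≫ V.ι = T.ι ≫ q A B := morphismRestrict_ι _ _
  have hcond : (pullback.fst r r ≫ T.ι) ≫ q A B = (pullback.snd r r ≫ T.ι) ≫ q A B := by
    rw [Category.assoc, Category.assoc, ← hrT, pullback.condition_assoc]
  let k₀ : pullback r r ⟶ Spec (CommRingCat.of (B ⊗[A] B)) :=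
    pullback.lift (pullback.fst r r ≫ T.ι) (pullback.snd r r ≫ T.ι) hcond ≫ (pullbackSpecIso A B B).hom
  have hk₁ : k₀ ≫ (pr₁ B j).left = pullback.fst r r ≫ T.ι := by
    rw [ov_left, Category.assoc, ← pullback_fst_eq, pullback.lift_fst]
  have hk₂ : k₀ ≫ (pr₂ B j).left = pullback.snd r r ≫ T.ι := by
    rw [ov_left, Category.assoc, ← pullback_snd_eq, pullback.lift_snd]
  let k : Z ⟶ P2 B j := Over.homMk k₀ (by
    rw [← Over.w (pr₁ B j), reassoc_of% hk₁]
    rfl)
  let f₁ : Z ⟶ O := Over.homMk (pullback.fst r r) rfl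
  let f₂ : Z ⟶ O := Over.homMk (pullback.snd r r) (by
    change pullback.snd r r ≫ T.ι ≫ q A B ≫ j = pullback.fst r r ≫ T.ι ≫ q A B ≫ j
    rw [← reassoc_of% hrT, ← pullback.condition_assoc])
  have h₁ : f₁ ≫ ιT = k ≫ pr₁ B j := Over.OverMorphism.ext hk₁.symm
  have h₂ : f₂ ≫ ιT = k ≫ pr₂ B j := Over.OverMorphism.ext hk₂.symm
  suffices h : f₁ ≫ σ = f₂ ≫ σ from congrArg Over.Hom.left h
  have hfx : (f₂ ≫ x) * (k ≫ g) = f₁ ≫ x := by
    refine tFn_injective ?_
    rw [tFn_mul, tFn_comp, tFn_comp, tFn_comp, hx]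
    let κ : B ⊗[A] B →+* Γ(pullback r r, ⊤) :=
      ((Scheme.ΓSpecIso (CommRingCat.of (B ⊗[A] B))).inv ≫ k₀.appTop).hom
    have hg' : k₀.appTop (tFn g) = κ τ := by
      rw [hτ]
      exact congrArg k₀.appTop ((Scheme.ΓSpecIso (CommRingCat.of (B ⊗[A] B))).hom_inv_id_apply _).symm
    obtain ⟨lZ, hlZ'⟩ : ∃ lZ : Γ(pullback r r, ⊤), lZ = lamΓ lam f Z := ⟨_, rfl⟩
    have hlZ : lZ = κ (algebraMap A _ l) := by
      rw [hlZ', hl, ← rd_lamΓ (f := f), ← lamΓ_comp (f := f) k]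
      exact congrArg k₀.appTop ((Scheme.ΓSpecIso (CommRingCat.of (B ⊗[A] B))).hom_inv_id_apply _).symm
    have e1 : ∀ (h : pullback r r ⟶ (T : Scheme.{u})) (ψ : B →ₐ[A] B ⊗[A] B),
        k₀ ≫ Spec.map (CommRingCat.ofHom ψ.toRingHom) = h ≫ T.ι →
        ∀ z, h.appTop (ρ z) = κ (ψ z) := by
      intro h ψ e z
      have e' : (Scheme.ΓSpecIso (CommRingCat.of (B ⊗[A] B))).inv (ψ z) =
          (Spec.map (CommRingCat.ofHom ψ.toRingHom)).appTop ((Scheme.ΓSpecIso (CommRingCat.of B)).inv z) :=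
        ConcreteCategory.congr_hom (Scheme.ΓSpecIso_inv_naturality (CommRingCat.ofHom ψ.toRingHom)) z
      change h.appTop (T.ι.appTop ((Scheme.ΓSpecIso (CommRingCat.of B)).inv z)) =
        k₀.appTop ((Scheme.ΓSpecIso (CommRingCat.of (B ⊗[A] B))).inv (ψ z))
      rw [e']
      exact ConcreteCategory.congr_hom (congrArg Scheme.Hom.appTop e.symm)
        ((Scheme.ΓSpecIso (CommRingCat.of B)).inv z)
    rw [← hlZ']
    change (pullback.snd r r).appTop _ + k₀.appTop (tFn g) +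
      lZ * ((pullback.snd r r).appTop _ * k₀.appTop (tFn g)) = (pullback.fst r r).appTop _
    rw [hg', hlZ, map_mul, map_mul, map_neg, map_neg, e1 _ _ hk₁, e1 _ _ hk₂]
    refine ((hmT.map (pullback.snd r r).appTop.hom).mul (hmT.map (pullback.fst r r).appTop.hom)).mul_left_cancel ?_
    have i1 : (pullback.fst r r).appTop (ρ m) * (pullback.fst r r).appTop (↑hmT.unit⁻¹ : Γ((T : Scheme.{u}), ⊤)) = 1 := by
      rw [← map_mul, IsUnit.mul_val_inv, map_one]
    have i2 : (pullback.snd r r).appTop (ρ m) * (pullback.snd r r).appTop (↑hmT.unit⁻¹ : Γ((T : Scheme.{u}), ⊤)) = 1 := by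
      rw [← map_mul, IsUnit.mul_val_inv, map_one]
    have hA := congrArg κ hτm
    have hB := congrArg κ hcong
    rw [Algebra.smul_def, map_sub, map_mul, map_mul] at hB
    rw [map_mul, map_sub] at hA
    rw [e1 _ _ hk₁] at i1
    rw [e1 _ _ hk₂] at i2
    rw [e1 _ _ hk₁, e1 _ _ hk₂]
    simp only [Algebra.TensorProduct.includeLeft_apply, Algebra.TensorProduct.includeRight_apply] at i1 i2 ⊢
    linear_combination
      (-(κ (1 ⊗ₜ[A] c)) * κ (m ⊗ₜ[A] 1) - κ (algebraMap A _ l) * κ τ * κ (1 ⊗ₜ[A] c) * κ (m ⊗ₜ[A] 1)) * i2 +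
        κ (c ⊗ₜ[A] 1) * κ (1 ⊗ₜ[A] m) * i1 +
        (κ (1 ⊗ₜ[A] m)) * hA + κ (1 ⊗ₜ[A] c) * hB
  simp only [σ, comp_act]
  rw [← Category.assoc f₁ ιT, h₁, ← Category.assoc f₂ ιT, h₂, Category.assoc, Category.assoc, ← hg,
    comp_act, ← GrpSch.act_mul, hfx]

theorem isTorsorFor_zariski [IsDomain R] (hlam : lam ≠ 0) [Flat f] {P : Over X}
    (a : AlgGrp.Action (Red.bc f (SekSuwa.G R lam)) P)
    (ha : NonAbH1.IsTorsorFor Scheme.fpqcPrecoverage a) :
    NonAbH1.IsTorsorFor Scheme.zariskiPrecoverage a :=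
  isTorsorFor_zariski_of ha fun _ _ _ _ _ _ j _ s p => exists_open hlam a ha.1 j s p

end Rings

end Groth.Agent.Lib.PHS.SekG
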